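import Cfsg.Agent.H526.ObComp
import Cfsg.Agent.H561.Eight.Blk
import Cfsg.Agent.H809.SelfCentPSU
import Cfsg.Agent.S0914
import Cfsg.Agent.S0283
import Cfsg.Agent.CTwoTab.Card
import Cfsg.Agent.SmallSimple.S1000.PSLFacts
import Cfsg.Agent.H113.PSU.Main
import Cfsg.Agent.H113.PSL.Main
import Cfsg.Agent.H596.OneFacts
import Cfsg.Agent.H809.SelfCentUni
import Cfsg.Agent.S0249
import Cfsg.Agent.S0243
import Cfsg.Agent.H759.Dl.Small
import Cfsg.Agent.Prune
set_option linter.all false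

section
prune_inst 0x7f00000000000000000000000000000000000000000000000000000000000000000000000000000000000000000000000000000000000000000000000000000000000000000000000000000000000000003fffffffffffffffffffffffffffbeffbdffffffff

-- part: H113/OB/Seven
section
set_option linter.all false
open scoped Cfsg.Agent.FastGrp

/-!
# `PSU_3(3)` and `PSU_4(3)` have more than one 2-block (helper113)

Both have a self-centralizing Sylow 7-subgroup of order `7` with automizer of order `3`; the degrees of the principal 7-block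
give an irreducible character of degree `8` or `32` (`PSU_3(3)`), of degree `640` (`PSU_4(3)`).
-/

set_option autoImplicit false

open Cfsg

namespace Cfsg.Agent.H113.OB

open Cfsg.Agent Cfsg.Agent.Characters.Core Cfsg.Agent.H526.OB
open Cfsg.Agent.SmallSimple.LocalData Cfsg.Agent.SmallSimple.DegreeData Cfsg.Agent.H424.BlockTools
  Cfsg.Agent.H424.BlockTools2 Subgroup

universe u

section

variable {G : Type u} [Group G] [Finite G]

/-- a nonlinear irreducible character of 2-defect zero -/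
theorem nb_of_defect_zero {d : ℕ} (hd : d ∈ charDegrees G) (h1 : d ≠ 1) (h : ¬ 2 ∣ Nat.card G / d) : NB G := by
  obtain ⟨χ, rfl⟩ := hd
  intro M hM
  have : Fact (Nat.Prime 2) := ⟨Nat.prime_two⟩
  have hprime := Blocks.Local.isPrime_of_isPModular hM
  refine ⟨χ, fun hmem => h1 ?_⟩
  have h2 := (S0914.result 2 M hM χ).1 h
  have h3 : triv G ∈ blockOf M (χ : G → ℂ) := Blocks.Basic.sameBlock_symm hmem
  rw [h2, Set.mem_singleton_iff] at h3
  rw [← h3]
  exact Blocks.Knorr.charDegree_of_natCast (by simp [triv])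

/-- the local data at `7` -/
theorem data_seven [IsSimpleGroup G] (hG : ¬ IsMulCommutative G) {n : ℕ} (hn : Nat.card G = n)
    (h7 : 7 ∣ n) (h49 : ¬ 7 ^ 2 ∣ n) (hmod : n / 7 % 7 = 3) (R : Subgroup G) (hR : Nat.card R = 7)
    (hC : centralizer (R : Set G) = R) : Data G 7 3 1 := by
  subst hn
  have hp : Nat.Prime 7 := by norm_num
  have : Fact (Nat.Prime 7) := ⟨hp⟩
  obtain ⟨e, k, h, -⟩ := exists_data hG hp (by norm_num) h7 h49
  obtain ⟨P, hP⟩ := exists_sylow_eq hp h49 R hR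
  have h1 := h.card_centralizer P
  have hk : k = 1 := by
    have h2 : centralizer (P : Set G) = R := by
      have : ((P : Subgroup G) : Set G) = (R : Set G) := congrArg _ hP
      rw [← hC, ← this]
      rfl
    rw [h2, hR] at h1
    omega
  subst hk
  obtain ⟨K, hK, -⟩ := h.loc P
  have he := Nat.le_of_dvd (by norm_num) hK.dvd_pred
  have h3 := h.card_sylow_mul
  have h4 : Nat.card (Sylow 7 G) % 7 = 1 := card_sylow_modEq_one 7 G
  have h5 : Nat.card G / 7 = Nat.card (Sylow 7 G) * e := by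
    rw [← h3, mul_one, show Nat.card (Sylow 7 G) * (7 * e) = 7 * (Nat.card (Sylow 7 G) * e) by ring,
      Nat.mul_div_cancel_left _ (by norm_num)]
  rw [h5, Nat.mul_mod, h4, one_mul, Nat.mod_mod] at hmod
  have he3 : e = 3 := by omega
  subst he3
  exact h

end

/-- **`PSU_3(3)`** -/
theorem nb_u33 {F : Type} [Field F] [Fintype F] (hF : Fintype.card F = 3 ^ 2) : NB (PSU 3 F 3) := by
  have : Fact (Nat.Prime 7) := ⟨by norm_num⟩
  have hs : IsSimpleGroup (PSU 3 F 3) := S0283.result hF 3 le_rfl (by norm_num)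
  have hcard : Nat.card (PSU 3 F 3) = 6048 :=
    SmallSimple.PSLFacts.card_psu_three_three (by rw [hF]; norm_num)
  have hG := SmallSimple.OrdersA.not_comm hcard (by norm_num)
  obtain ⟨R, hR, hC⟩ := Cfsg.Agent.H809.SelfCent.psu_selfcent 3 3 7 (by decide) F hF
  have h := data_seven hG hcard (by norm_num) (by norm_num) (by norm_num) R hR hC
  obtain ⟨M, hM, ⟨D⟩⟩ := exists_block h (by norm_num) default (t := 2) (by norm_num)
  have h3 : ∀ z ∈ D.degs, decide (3 ≤ z.natAbs) = true := fun z hz => by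
    rw [decide_eq_true_eq]
    exact degs_three_le (by rw [hcard]; norm_num) (by rw [hcard]; norm_num) D z hz
  have h4 := SmallSimple.DegreeCheck.degs_check D (h.card_eq _) rfl hcard
    (L := [(2, 5), (3, 3), (7, 1)]) (by norm_num)
    (by norm_num) (F := fun z => decide (3 ≤ z.natAbs)) (FX := fun _ => true)
    (C := [-216, -48, -27, -6, 8, 36, 288]) (Ds := [-144, -32, -18, -4, 3, 24, 108, 864]) h3 rfl
    (by decide) (o := 216) (w := 1000) (M := 0) (wt := fun _ => 0) (V := 0) (Or.inl rfl)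
    (P := fun l => [[-27, -6], [-27, 8], [-6, 8]].contains l) (by decide +kernel)
  have h5 : D.degs = [-27, -6] ∨ D.degs = [-27, 8] ∨ D.degs = [-6, 8] := by simpa using h4
  have h6 := dexc_mem D (by norm_num)
  have key : ∃ k : ℕ, 2 ^ (k + 1) ∈ charDegrees (PSU 3 F 3) := by
    rcases h5 with h5 | h5 | h5
    · rw [h5] at h6
      exact ⟨4, h6⟩
    · exact ⟨2, degs_mem D (z := 8) (by rw [h5]; simp)⟩
    · exact ⟨2, degs_mem D (z := 8) (by rw [h5]; simp)⟩
  obtain ⟨k, χ, hχ⟩ := key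
  refine NB.of_degree' hG χ.2 (k := k) ?_
  rw [Blocks.Knorr.charDegree_eq χ.2, hχ]
  push_cast
  rfl

/-- **`PSU_4(3)`** -/
theorem nb_u43 {F : Type} [Field F] [Fintype F] (hF : Fintype.card F = 3 ^ 2) : NB (PSU 4 F 3) := by
  have : Fact (Nat.Prime 7) := ⟨by norm_num⟩
  have h3 : Fact (Nat.Prime 3) := ⟨Nat.prime_three⟩
  have hs : IsSimpleGroup (PSU 4 F 3) := S0283.result hF 4 (by norm_num) (by norm_num)
  have hcard : Nat.card (PSU 4 F 3) = 3265920 := CTwoTab.card_psu_four_three (by rw [hF]; norm_num)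
  have hG := SmallSimple.OrdersA.not_comm hcard (by norm_num)
  obtain ⟨R, hR, hC⟩ := Cfsg.Agent.H809.SelfCent.psu_selfcent 4 3 7 (by decide) F hF
  have h := data_seven hG hcard (by norm_num) (by norm_num) (by norm_num) R hR hC
  obtain ⟨M, hM, ⟨D⟩⟩ := exists_block h (by norm_num) default (t := 2) (by norm_num)
  -- degree 90
  obtain ⟨φ, hφ⟩ := PSU.Facts.exF (F := F) (q := 3) (n := 4) hF le_rfl
  have h90 : 90 ∈ charDegrees (PSU 4 F 3) := by
    refine ⟨φ, ?_⟩
    have e4 : PSU.Levi.uu 3 4 = 80 := by decide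
    have e1 : PSU.Levi.uu 3 (4 - 3) = 4 := by decide
    rw [e4, e1] at hφ
    omega
  -- degree 729
  have hchar : CharP F 3 := by
    obtain ⟨p, hp⟩ := CharP.exists F
    have hpr : p.Prime := (CharP.char_is_prime_or_zero F p).resolve_right (CharP.char_ne_zero_of_finite F p)
    have : Fact p.Prime := ⟨hpr⟩
    obtain ⟨s, hs0, hs⟩ := FiniteField.card F p
    rw [hF] at hs
    have h1 : p ∣ 3 ^ 2 := by rw [hs]; exact dvd_pow_self _ s.ne_zero
    have h2 : p = 3 := (Nat.prime_dvd_prime_iff_eq hpr Nat.prime_three).1 (hpr.dvd_of_dvd_pow h1)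
    subst h2
    exact hp
  have hlie : IsLieTypeChar 3 (PSU 4 F 3) :=
    Or.inr (Or.inr (Or.inl ⟨F, inferInstance, inferInstance, hchar, 4, 3, hF, by norm_num, by norm_num,
      ⟨MulEquiv.refl _⟩⟩))
  have h729 : 729 ∈ charDegrees (PSU 4 F 3) := by
    obtain ⟨χ, hχ, h1, -⟩ := H167.StChar.hasSt_of_lie Nat.prime_three hlie
    refine ⟨⟨χ, hχ⟩, Blocks.Knorr.charDegree_of_natCast ?_⟩
    change χ 1 = _
    rw [h1, hcard]
    have : (3265920 : ℕ).factorization 3 = 6 := by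
      rw [Nat.factorization_def _ Nat.prime_three]
      rw [show (3265920 : ℕ) = 3 ^ 6 * 4480 by norm_num, padicValNat.mul (by norm_num) (by norm_num),
        padicValNat.prime_pow, padicValNat.eq_zero_of_not_dvd (by norm_num)]
    rw [this]
    norm_num
  have hP := h.card_eq (default : Sylow 7 (PSU 4 F 3))
  have hCP : Nat.card (centralizer ((default : Sylow 7 (PSU 4 F 3)) : Set (PSU 4 F 3))) = 7 := by
    rw [h.card_centralizer]
  have c1 := degree_cases hM D hP hCP (by norm_num) h90 (by norm_num)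
  have c2 := degree_cases hM D hP hCP (by norm_num) h729 (by norm_num)
  have hlen := D.length_degs
  obtain ⟨a, b, hab⟩ : ∃ a b, D.degs = [a, b] := List.length_eq_two.1 (by omega)
  have hspec := D.degs_spec hP
  have hexc := D.dexc_modEq hP (by norm_num)
  rw [← D.dexc_eq (by norm_num)] at hexc
  have hmem := dexc_mem D (by norm_num)
  rw [hab] at c1 c2 hspec hexc hmem
  simp only [List.mem_cons, List.not_mem_nil, or_false, exists_eq_or_imp, exists_eq_left, List.sum_cons,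
    List.sum_nil, add_zero, forall_eq_or_imp, forall_eq] at c1 c2 hspec hexc hmem
  obtain ⟨⟨ha, -, -⟩, ⟨hb, -, -⟩⟩ := hspec
  unfold Int.ModEq at ha hb hexc
  push_cast at ha hb hexc
  have hd : (1 + (a + b)).natAbs = 640 := by omega
  rw [hd] at hmem
  exact nb_of_defect_zero hmem (by norm_num) (by rw [hcard]; norm_num)

end Cfsg.Agent.H113.OB

private theorem dce_29e99275f071 : _root_.True := by
  try have : _root_.True := by simp only [_root_.Cfsg.Agent.H526.OB.triv.eq_1]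
  exact _root_.True.intro
end

-- part: H113/Two/Psl
section
set_option linter.all false
open scoped Cfsg.Agent.FastGrp

-- part: H113/Two/PslGen
section
/-!
# Two irreducible characters of `PSL_n(q)`, `n ≥ 3`, of different degrees divisible by `p` (helper113)

`p` is a prime divisor of the group order which does not divide `q`; here everything except `PSL_3(2)` and `PSL_3(4)`
for `p = 7`.
-/

set_option autoImplicit false
set_option linter.unusedSectionVars false
set_option linter.style.haveILetI false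

open scoped ComplexConjugate LinearAlgebra.Projectivization
open Cfsg Matrix

namespace Cfsg.Agent.H113.Two.PslGen

open Cfsg.Agent.H53.HC Cfsg.Agent.Characters MulAction Module
open Cfsg.Agent.H113.PSL Para Pass Hyper Degrees Three Facts Main
open Cfsg.Agent.H596.OneFacts

universe u v w

variable {F : Type u} [Field F] [Fintype F]

local notation "𝔮" => Fintype.card F

/-- the cuspidal character of degree `∏_{0<i<n} (q^i - 1) / t` -/
theorem exA' {n : ℕ} (hn : 3 ≤ n) (h : HasCusp F n) :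
    ∃ (φ : IrrCharacter (ProjectiveSpecialLinearGroup (Fin n) F)) (t : ℕ), t ∣ 𝔮 - 1 ∧
      charDegree (φ : ProjectiveSpecialLinearGroup (Fin n) F → ℂ) * t =
        ∏ i ∈ Finset.range (n - 1), (𝔮 ^ (i + 1) - 1) ∧
      ∀ r : ℕ, IsA F n r → r ∣ charDegree (φ : ProjectiveSpecialLinearGroup (Fin n) F → ℂ) := by
  obtain ⟨φ, t, ht, hφ⟩ := exists_cusp (by omega) h
  have hq := one_lt_q (F := F)
  have htq := ht.trans (Nat.gcd_dvd_right _ _)
  have hdvd : (∏ i ∈ Finset.range (n - 2), (𝔮 ^ (i + 2) - 1)) ∣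
        charDegree (φ : ProjectiveSpecialLinearGroup (Fin n) F → ℂ) := by
    refine dvd_of_mul_eq (c := 𝔮 - 1) (by omega) htq ?_
    rw [hφ]
    obtain ⟨k, rfl⟩ : ∃ k, n = k + 2 := ⟨n - 2, by omega⟩
    change ∏ i ∈ Finset.range (k + 1), _ = _
    rw [Finset.prod_range_succ', mul_comm]
    simp only [_root_.zero_add, _root_.pow_one, _root_.add_tsub_cancel_right]
  refine ⟨φ, t, htq, hφ, ?_⟩
  rintro r ⟨i, hi, hin, hr⟩
  refine dvd_trans ?_ hdvd
  by_cases h1 : i = 1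
  · subst h1
    refine (hr.trans ?_).trans (Finset.dvd_prod_of_mem (fun j => 𝔮 ^ (j + 2) - 1)
      (Finset.mem_range.2 (show 0 < n - 2 by omega)))
    rw [pow_one]
    exact sub_one_dvd _
  · refine hr.trans ?_
    have h2 := Finset.dvd_prod_of_mem (fun j => 𝔮 ^ (j + 2) - 1)
      (Finset.mem_range.2 (show i - 2 < n - 2 by omega))
    have h3 : i - 2 + 2 = i := by omega
    simp only [h3] at h2
    exact h2

/-- the character of degree `(q^n - 1)/(q - 1) ∏_{0<i<n-1} (q^i - 1) / t` -/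
theorem exB' {n : ℕ} (hn : 3 ≤ n) (h : HasCusp F (n - 1)) :
    ∃ (φ : IrrCharacter (ProjectiveSpecialLinearGroup (Fin n) F)) (t : ℕ), t ∣ 𝔮 - 1 ∧
      charDegree (φ : ProjectiveSpecialLinearGroup (Fin n) F → ℂ) * t * (𝔮 - 1) =
        (𝔮 ^ n - 1) * ∏ i ∈ Finset.range (n - 2), (𝔮 ^ (i + 1) - 1) ∧
      ∀ r : ℕ, r.Prime → Facts.IsB F n r → r ∣ charDegree (φ : ProjectiveSpecialLinearGroup (Fin n) F → ℂ) := by
  obtain ⟨m, rfl⟩ : ∃ m, n = m + 1 := ⟨n - 1, by omega⟩
  rw [Nat.add_sub_cancel] at h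
  have hm0 : 2 ≤ m := by omega
  obtain ⟨φ, t, ht, hφ0⟩ := exists_hyper hm0 h
  have hq := one_lt_q (F := F)
  have hφ : charDegree (φ : ProjectiveSpecialLinearGroup (Fin (m + 1)) F → ℂ) * t =
        (𝔮 - 1) * ((∑ i ∈ Finset.range (m + 1), 𝔮 ^ i) * ∏ i ∈ Finset.range (m - 2), (𝔮 ^ (i + 2) - 1)) := by
    apply Nat.eq_of_mul_eq_mul_right (show 0 < 𝔮 - 1 by omega)
    rw [hφ0, ← geom]
    obtain ⟨k, rfl⟩ : ∃ k, m = k + 2 := ⟨m - 2, by omega⟩
    change _ * ∏ i ∈ Finset.range (k + 1), _ = _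
    rw [Finset.prod_range_succ']
    simp only [Nat.add_sub_cancel, zero_add, pow_one]
    ring
  have hdvd := dvd_of_mul_eq (c := 𝔮 - 1) (by omega) (ht.trans (Nat.gcd_dvd_right _ _)) hφ
  refine ⟨φ, t, ht.trans (Nat.gcd_dvd_right _ _), hφ0, fun r hr hB => ?_⟩
  -- primes dividing `q - 1`
  have key : r ∣ 𝔮 - 1 → r ∣ charDegree (φ : ProjectiveSpecialLinearGroup (Fin (m + 1)) F → ℂ) := by
    intro h1
    by_cases hm : m = 2
    · subst hm
      by_cases h3 : r = 3
      · subst h3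
        refine dvd_trans ?_ hdvd
        apply Dvd.dvd.mul_right
        simp only [Finset.sum_range_succ, Finset.sum_range_zero, zero_add, pow_zero, pow_one]
        obtain ⟨k, hk⟩ := h1
        have : 𝔮 = 3 * k + 1 := by omega
        rw [this]
        exact ⟨3 * k ^ 2 + 3 * k + 1, by ring⟩
      · have h4 : r.Coprime t := by
          rw [hr.coprime_iff_not_dvd]
          intro h5
          have h6 := (h5.trans ht).trans (Nat.gcd_dvd_left _ _)
          exact h3 ((Nat.prime_dvd_prime_iff_eq hr Nat.prime_three).1 h6)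
        refine h4.dvd_of_dvd_mul_right ?_
        rw [hφ]
        exact h1.mul_right _
    · refine (h1.trans ?_).trans ((Dvd.intro_left _ rfl).trans hdvd)
      refine (sub_one_dvd 2).trans ?_
      exact Finset.dvd_prod_of_mem (fun j => 𝔮 ^ (j + 2) - 1) (Finset.mem_range.2 (show 0 < m - 2 by omega))
  rcases hB with h1 | ⟨i, hi, him, h1⟩
  · rw [← geom, hr.dvd_mul] at h1
    rcases h1 with h1 | h1
    · exact (h1.trans (Dvd.intro _ rfl)).trans hdvd
    · exact key h1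
  · by_cases hi1 : i = 1
    · subst hi1
      rw [pow_one] at h1
      exact key h1
    · refine (h1.trans ?_).trans ((Dvd.intro_left _ rfl).trans hdvd)
      have h2 := Finset.dvd_prod_of_mem (fun j => 𝔮 ^ (j + 2) - 1)
        (Finset.mem_range.2 (show i - 2 < m - 2 by omega))
      have h3 : i - 2 + 2 = i := by omega
      simp only [h3] at h2
      exact h2

/-- the two degrees are different -/
theorem degrees_ne {n d t t' : ℕ} (hn : 3 ≤ n) (ht : t ∣ 𝔮 - 1) (ht' : t' ∣ 𝔮 - 1)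
    (h1 : d * t = ∏ i ∈ Finset.range (n - 1), (𝔮 ^ (i + 1) - 1))
    (h2 : d * t' * (𝔮 - 1) = (𝔮 ^ n - 1) * ∏ i ∈ Finset.range (n - 2), (𝔮 ^ (i + 1) - 1)) : False := by
  have hq := one_lt_q (F := F)
  obtain ⟨m, rfl⟩ : ∃ m, n = m + 2 := ⟨n - 2, by omega⟩
  change d * t = ∏ i ∈ Finset.range (m + 1), _ at h1
  rw [Nat.add_sub_cancel] at h2
  rw [Finset.prod_range_succ] at h1
  set P := ∏ i ∈ Finset.range m, (𝔮 ^ (i + 1) - 1)
  have hP : 0 < P := by
    apply Finset.prod_pos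
    intro i _
    have : 1 < 𝔮 ^ (i + 1) := Nat.one_lt_pow (by omega) hq
    omega
  have hb : 1 < 𝔮 ^ (m + 1) := Nat.one_lt_pow (by omega) hq
  have e1 : 𝔮 ^ (m + 2) - 1 = 𝔮 * (𝔮 ^ (m + 1) - 1) + (𝔮 - 1) := by
    have : 𝔮 ^ (m + 2) = 𝔮 * 𝔮 ^ (m + 1) := by rw [pow_succ']
    obtain ⟨z, hz⟩ : ∃ z, 𝔮 ^ (m + 1) = z + 1 := ⟨𝔮 ^ (m + 1) - 1, by omega⟩
    rw [this, hz, Nat.add_sub_cancel, mul_add]
    omega
  have e2 : (𝔮 ^ (m + 1) - 1) * (t' * (𝔮 - 1)) = (𝔮 ^ (m + 2) - 1) * t := by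
    apply Nat.eq_of_mul_eq_mul_left hP
    calc P * ((𝔮 ^ (m + 1) - 1) * (t' * (𝔮 - 1))) = (P * (𝔮 ^ (m + 1) - 1)) * (t' * (𝔮 - 1)) := by ring
      _ = (d * t' * (𝔮 - 1)) * t := by rw [← h1]; ring
      _ = P * ((𝔮 ^ (m + 2) - 1) * t) := by rw [h2]; ring
  have ht0 : 0 < t := Nat.pos_of_dvd_of_pos ht (by omega)
  have htl := Nat.le_of_dvd (by omega) ht
  set B := 𝔮 ^ (m + 1) - 1 with hB
  have hB2 : (𝔮 - 1) * t < B := by
    have h3 : 𝔮 ^ 2 ≤ 𝔮 ^ (m + 1) := Nat.pow_le_pow_right (by omega) (by omega)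
    have h4 : (𝔮 - 1) * t ≤ (𝔮 - 1) * (𝔮 - 1) := Nat.mul_le_mul_left _ htl
    have h5 : (𝔮 - 1) * (𝔮 - 1) + 2 * (𝔮 - 1) + 1 = 𝔮 ^ 2 := by
      obtain ⟨x, hx⟩ : ∃ x, 𝔮 = x + 1 := ⟨𝔮 - 1, by omega⟩
      rw [hx, Nat.add_sub_cancel]
      ring
    omega
  rw [e1] at e2
  have e3 : B * (t' * (𝔮 - 1)) = B * (𝔮 * t) + (𝔮 - 1) * t := by rw [e2]; ring
  have h5 : B ∣ (𝔮 - 1) * t := by
    rw [← Nat.dvd_add_right (Dvd.intro _ rfl : B ∣ B * (𝔮 * t)), ← e3]
    exact Dvd.intro _ rfl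
  have h6 : 0 < (𝔮 - 1) * t := Nat.mul_pos (by omega) ht0
  exact absurd (Nat.le_of_dvd h6 h5) (by omega)

/-- `q` is prime to `q^i - 1` -/
theorem coprime_pow_sub (i : ℕ) (hi : 0 < i) : Nat.Coprime 𝔮 (𝔮 ^ i - 1) := by
  have hq := one_lt_q (F := F)
  have h1 : 1 < 𝔮 ^ i := Nat.one_lt_pow (by omega) hq
  have h2 : Nat.Coprime (𝔮 ^ i) (𝔮 ^ i - 1) := by
    obtain ⟨z, hz⟩ : ∃ z, 𝔮 ^ i = z + 1 := ⟨𝔮 ^ i - 1, by omega⟩
    rw [hz, Nat.add_sub_cancel]
    simp
  exact Nat.Coprime.coprime_dvd_left (dvd_pow_self 𝔮 (by omega)) h2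

theorem coprime_prod (n : ℕ) : Nat.Coprime 𝔮 (∏ i ∈ Finset.range n, (𝔮 ^ (i + 1) - 1)) :=
  Nat.Coprime.prod_right fun i _ => coprime_pow_sub (i + 1) (by omega)

/-- a degree prime to `q` and a degree divisible by `q` -/
theorem ne_of_q {d d' N t : ℕ} (h : Nat.Coprime 𝔮 N) (h1 : d * t = N) (h2 : 𝔮 ∣ d') : d ≠ d' := by
  rintro rfl
  have hq := one_lt_q (F := F)
  have h3 : 𝔮 ∣ N := by rw [← h1]; exact h2.mul_right _
  have h4 := Nat.Coprime.eq_one_of_dvd h h3
  omega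

theorem q_dvd {d t N : ℕ} (ht : t ∣ 𝔮 - 1) (h1 : d * t = N) (h2 : 𝔮 ∣ N) : 𝔮 ∣ d := by
  have h3 : Nat.Coprime 𝔮 t := by
    have := coprime_pow_sub (F := F) 1 (by norm_num)
    rw [pow_one] at this
    exact Nat.Coprime.coprime_dvd_right ht this
  exact h3.dvd_of_dvd_mul_right (by rw [h1]; exact h2)

/-- **the case `IsA`** -/
theorem two_A {n : ℕ} (hn : 3 ≤ n) {p : ℕ} (hp : p.Prime) (hA : IsA F n p) :
    Two p (ProjectiveSpecialLinearGroup (Fin n) F) := by
  obtain ⟨φ, t, ht, hφ, h1⟩ := exA' hn (hasCusp F n (by omega))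
  by_cases hB : Facts.IsB F n p
  · obtain ⟨ψ, t', ht', hψ, h2⟩ := exB' hn (hasCusp F (n - 1) (by omega))
    refine two_of_degree_ne φ ψ (h1 p hA) (h2 p hp hB) fun h => ?_
    rw [← h] at hψ
    exact degrees_ne hn ht ht' hφ hψ
  · obtain ⟨ψ, hψ⟩ := t3 (F := F) (n := n) (by omega)
    have hC := isC_of_isA hn hp hA hB
    refine two_of_degree_ne φ ψ (h1 p hA) ?_ ?_
    · rcases hC with h | h
      · rw [hψ]; exact h.mul_right _
      · rw [hψ]; exact h.mul_left _
    · exact ne_of_q (coprime_prod (n - 1)) hφ (by rw [hψ]; exact Dvd.intro _ rfl)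

/-- the character with the Steinberg character of `GL_2(q)` -/
theorem exists_st2 {n : ℕ} (hn : 5 ≤ n) {p : ℕ} (hp : p.Prime) (h0 : p ∣ 𝔮 ^ n - 1)
    (hA : ¬ IsA F n p) : ∃ φ : IrrCharacter (ProjectiveSpecialLinearGroup (Fin n) F),
      p ∣ charDegree (φ : ProjectiveSpecialLinearGroup (Fin n) F → ℂ) ∧
      𝔮 ∣ charDegree (φ : ProjectiveSpecialLinearGroup (Fin n) F → ℂ) := by
  classical
  have hq := one_lt_q (F := F)
  obtain ⟨m, rfl⟩ : ∃ m, n = m + 2 := ⟨n - 2, by omega⟩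
  obtain ⟨φ, t, ht, hφ⟩ := exists_para (F := F) (n := m + 2) (a := m) (b := 2) (by omega) (by omega) rfl
    (hasCusp F m (by omega)) (isIrr_st (F := F) 1) (d := 𝔮) (st_one 1) (fun c => by
      rw [st_scalar, st_one]; simp)
  have htq := ht.trans (Nat.gcd_dvd_right _ _)
  refine ⟨φ, ?_, q_dvd htq hφ ⟨Nat.card {W : Submodule F (Fin (m + 2) → F) // finrank F W = m} *
          (∏ i ∈ Finset.range (m - 1), (Fintype.card F ^ (i + 1) - 1)), by ring⟩⟩
  have hpt : p.Coprime t := by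
    rw [hp.coprime_iff_not_dvd]
    intro h
    exact hA ⟨1, le_rfl, by omega, by rw [pow_one]; exact h.trans htq⟩
  refine hpt.dvd_of_dvd_mul_right ?_
  rw [hφ]
  apply Dvd.dvd.mul_right
  have h1 := H950.card_subspaces_symm (F := F) (V := Fin (m + 2) → F) (by rw [finrank_fin_fun]) (k := 2) (by omega)
  have h2 := H950.card_subspaces_eq (F := F) (V := Fin (m + 2) → F) (by rw [finrank_fin_fun]) (k := 2) (by omega) rfl
  rw [Nat.add_sub_cancel] at h1
  rw [h1]
  rw [Fin.prod_univ_two, Fin.prod_univ_two] at h2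
  have h3 : p ∣ Nat.card {W : Submodule F (Fin (m + 2) → F) // finrank F W = 2} *
      ((𝔮 ^ 2 - 1) * (𝔮 - 1)) := by
    have e1 : (𝔮 ^ (2 - (0 : Fin 2).val) - 1) * (𝔮 ^ (2 - (1 : Fin 2).val) - 1) = (𝔮 ^ 2 - 1) * (𝔮 - 1) := by simp only [_root_.Fin.isValue, _root_.Fin.coe_ofNat_eq_mod, _root_.Nat.zero_mod, _root_.tsub_zero, _root_.Nat.mod_succ, _root_.Nat.add_one_sub_one, _root_.pow_one]
    have e2 : (𝔮 ^ (m + 2 - (0 : Fin 2).val) - 1) = 𝔮 ^ (m + 2) - 1 := by simp only [_root_.Fin.isValue, _root_.Fin.coe_ofNat_eq_mod, _root_.Nat.zero_mod, _root_.tsub_zero]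
    rw [e1, e2] at h2
    rw [h2]
    exact h0.mul_right _
  rcases (hp.dvd_mul).1 h3 with h3 | h3
  · exact h3
  · exfalso
    rcases (hp.dvd_mul).1 h3 with h3 | h3
    · exact hA ⟨2, by omega, by omega, h3⟩
    · exact hA ⟨1, by omega, by omega, by rwa [pow_one]⟩

/-- **the case `IsB`, not `IsA`** -/
theorem two_B {n : ℕ} (hn : 3 ≤ n) {p : ℕ} (hp : p.Prime) (hB : Facts.IsB F n p) (hA : ¬ IsA F n p)
    (h24 : n = 3 → 𝔮 ≠ 2 ∧ 𝔮 ≠ 4) : Two p (ProjectiveSpecialLinearGroup (Fin n) F) := by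
  classical
  have hq := one_lt_q (F := F)
  have h0 : p ∣ 𝔮 ^ n - 1 := by
    rcases hB with h | ⟨i, hi, hin, h⟩
    · exact h
    · exact absurd ⟨i, hi, by omega, h⟩ hA
  have hq1 : ¬ p ∣ 𝔮 - 1 := fun h => hA ⟨1, le_rfl, by omega, by rwa [pow_one]⟩
  obtain ⟨ψ, t', ht', hψ, h2⟩ := exB' hn (hasCusp F (n - 1) (by omega))
  -- a second character, of degree divisible by `q`
  suffices H : ∃ φ : IrrCharacter (ProjectiveSpecialLinearGroup (Fin n) F),
      p ∣ charDegree (φ : ProjectiveSpecialLinearGroup (Fin n) F → ℂ) ∧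
      𝔮 ∣ charDegree (φ : ProjectiveSpecialLinearGroup (Fin n) F → ℂ) by
    obtain ⟨φ, hφ1, hφ2⟩ := H
    refine two_of_degree_ne ψ φ (h2 p hp hB) hφ1 ?_
    rw [mul_assoc] at hψ
    exact ne_of_q (Nat.Coprime.mul_right (coprime_pow_sub n (by omega)) (coprime_prod (n - 2))) hψ hφ2
  rcases Nat.lt_or_ge 4 n with h5 | h5
  · exact exists_st2 h5 hp h0 hA
  · rcases (show n = 3 ∨ n = 4 by omega) with rfl | rfl
    · obtain ⟨φ, t, ht, hφ⟩ := exists_st (F := F) (h24 rfl).1 (h24 rfl).2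
      have htq := ht.trans (Nat.gcd_dvd_right _ _)
      have h3 : charDegree (φ : ProjectiveSpecialLinearGroup (Fin 3) F → ℂ) * t = (∑ i ∈ Finset.range 3, 𝔮 ^ i) * 𝔮 := by
        apply Nat.eq_of_mul_eq_mul_right (show 0 < 𝔮 - 1 by omega)
        rw [hφ, ← geom]
        ring
      refine ⟨φ, ?_, q_dvd htq h3 (Dvd.intro_left _ rfl)⟩
      have hpt : p.Coprime t := by
        rw [hp.coprime_iff_not_dvd]
        exact fun h => hq1 (h.trans htq)
      refine hpt.dvd_of_dvd_mul_right ?_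
      rw [h3]
      apply Dvd.dvd.mul_right
      rw [← geom, hp.dvd_mul] at h0
      exact h0.resolve_right hq1
    · obtain ⟨φ, t, ht, hφ⟩ := t7 (F := F) (hasCusp F 2 (by norm_num))
      have htq := ht.trans (Nat.gcd_dvd_right _ _)
      refine ⟨φ, ?_, q_dvd htq hφ ⟨(𝔮 - 1) * ((𝔮 ^ 2 + 1) * (𝔮 ^ 2 + 𝔮 + 1)), by ring⟩⟩
      have hpt : p.Coprime t := by
        rw [hp.coprime_iff_not_dvd]
        exact fun h => hq1 (h.trans htq)
      refine hpt.dvd_of_dvd_mul_right ?_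
      rw [hφ]
      have e1 : 𝔮 ^ 4 - 1 = (𝔮 ^ 2 - 1) * (𝔮 ^ 2 + 1) := by
        obtain ⟨x, hx⟩ : ∃ x, 𝔮 ^ 2 = x + 1 := ⟨𝔮 ^ 2 - 1, by have : 0 < 𝔮 ^ 2 := by positivity
                                                              omega⟩
        have : 𝔮 ^ 4 = (𝔮 ^ 2) ^ 2 := by ring
        rw [this, hx, Nat.add_sub_cancel]
        have : (x + 1) ^ 2 = x * (x + 1 + 1) + 1 := by ring
        rw [this, Nat.add_sub_cancel]
      rw [e1, hp.dvd_mul] at h0
      have h3 : p ∣ 𝔮 ^ 2 + 1 := h0.resolve_left fun h => hA ⟨2, by omega, by omega, h⟩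
      exact ((h3.mul_right _).mul_left _).mul_left _

/-- **`PSL_n(q)`, `n ≥ 3`, `p ∤ q`**, except `PSL_3(2)`, `PSL_3(4)` -/
theorem two_psl_gen {n : ℕ} (hn : 3 ≤ n) {p : ℕ} (hp : p.Prime) (hd : p ∣ Nat.card (ProjectiveSpecialLinearGroup (Fin n) F))
    (hq : ¬ p ∣ 𝔮) (h24 : ¬ IsA F n p → n = 3 → 𝔮 ≠ 2 ∧ 𝔮 ≠ 4) : Two p (ProjectiveSpecialLinearGroup (Fin n) F) := by
  by_cases hA : IsA F n p
  · exact two_A hn hp hA
  · rcases cover hp hd with h | h | h
    · exact absurd h hq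
    · exact absurd h hA
    · exact two_B hn hp h hA (h24 hA)

end Cfsg.Agent.H113.Two.PslGen
end

-- part: H113/Two/Block
section
/-!
# Degrees divisible by `p` from the principal `p`-block, `|P| = p`, `P` self-centralizing (helper113)
-/

set_option autoImplicit false

open Cfsg

namespace Cfsg.Agent.H113.Two.Block

open Cfsg.Agent Cfsg.Agent.Characters.Core Cfsg.Agent.H596.OneFacts
open Cfsg.Agent.SmallSimple.LocalData Cfsg.Agent.SmallSimple.DegreeData Cfsg.Agent.H424.BlockTools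
  Cfsg.Agent.H424.BlockTools2 Subgroup

universe u

variable {G : Type u} [Group G] [Finite G]

/-- the sum of the squares of the degrees of the characters outside of the principal block -/
theorem exists_other {p e t : ℕ} [Fact p.Prime] {M : Ideal AlgInt} (hM : IsPModular p M) {P : Sylow p G}
    (D : BlockData p M P e t) (hP : Nat.card P = p) (hC : Nat.card (centralizer (P : Set G)) = p) {d : ℕ}
    (hd : ¬ ((d : ℤ) ^ 2 ∣ (Nat.card G : ℤ) - (1 + (D.degs.map (· ^ 2)).sum + t * (D.f : ℤ) ^ 2))) :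
    ∃ ψ : IrrCharacter G, p ∣ charDegree (ψ : G → ℂ) ∧ charDegree (ψ : G → ℂ) ≠ d := by
  have := finite_irr (G := G)
  have := Fintype.ofFinite (IrrCharacter G)
  by_contra hcon
  push Not at hcon
  apply hd
  have h1 := D.sum_sq
  have h2 : (Nat.card G : ℤ) - (1 + (D.degs.map (· ^ 2)).sum + t * (D.f : ℤ) ^ 2) =
      ∑ χ ∈ D.others, (charDegree (χ : G → ℂ) : ℤ) ^ 2 := by linarith only [h1]
  rw [h2]
  refine Finset.dvd_sum fun χ hχ => ?_
  have h3 : χ ∉ principalBlock M G := D.mem_others.1 hχ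
  have h4 : p ∣ charDegree (χ : G → ℂ) := by
    by_contra h5
    exact h3 (mem_principalBlock hM D hP hC h5)
  rw [hcon χ h4]

/-- **two degrees** -/
theorem two_of_sum {p e t : ℕ} [Fact p.Prime] {M : Ideal AlgInt} (hM : IsPModular p M) {P : Sylow p G}
    (D : BlockData p M P e t) (hP : Nat.card P = p) (hC : Nat.card (centralizer (P : Set G)) = p)
    (φ : IrrCharacter G) (hφ : p ∣ charDegree (φ : G → ℂ))
    (hd : ¬ ((charDegree (φ : G → ℂ) : ℤ) ^ 2 ∣
      (Nat.card G : ℤ) - (1 + (D.degs.map (· ^ 2)).sum + t * (D.f : ℤ) ^ 2))) : Two p G := by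
  obtain ⟨ψ, h1, h2⟩ := exists_other hM D hP hC hd
  exact two_of_degree_ne φ ψ hφ h1 h2.symm

end Cfsg.Agent.H113.Two.Block
end

-- part: H113/Two/Psl
section
/-!
# Two irreducible characters of `PSL_n(q)`, `n ≥ 3`, of different degrees divisible by `p ∤ q` (helper113)

`two_psl` : the row of `FactTwo` for `PSL_n(q)`, `n ≥ 3`, `p` not the characteristic.
-/

set_option autoImplicit false

open Cfsg Matrix

namespace Cfsg.Agent.H113.Two.Psl

open Cfsg.Agent Cfsg.Agent.Characters.Core Cfsg.Agent.H596.OneFacts Cfsg.Agent.H809.SelfCent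
open Cfsg.Agent.SmallSimple.LocalData Cfsg.Agent.SmallSimple.DegreeData Cfsg.Agent.H424.BlockTools
  Cfsg.Agent.H424.BlockTools2 Subgroup Cfsg.Agent.LieExceptional.IrredMatrix
open Cfsg.Agent.H113.PSL Facts Main

universe u v

section Cent

variable {F : Type u} [Field F] [Fintype F]

open Polynomial in
/-- the determinant on the centraliser of an element acting irreducibly -/
theorem exists_cent_det {n r q : ℕ} (hF : Fintype.card F = q) (hn : n.Prime) (hr : r.Prime) (h1 : r ∣ q ^ n - 1)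
    (h2 : ¬ r ∣ q - 1) (h3 : ¬ r ∣ q) (x : GL (Fin n) F) (hx : orderOf x = r) (c : Fˣ) :
    ∃ y ∈ centralizer ({x} : Set (GL (Fin n) F)), GeneralLinearGroup.det y = c := by
  obtain ⟨h4, h5⟩ := irr hF hn hr h1 h2 h3 x hx
  obtain ⟨f, hf⟩ := exists_det_eq hn.pos h4 h5.ge (c : F)
  have hu : IsUnit (aeval (x : Matrix (Fin n) (Fin n) F) f).det := by
    rw [hf]; exact c.isUnit
  let y : GL (Fin n) F := GeneralLinearGroup.mk'' (aeval (x : Matrix (Fin n) (Fin n) F) f) hu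
  have hy : (y : Matrix (Fin n) (Fin n) F) = aeval (x : Matrix (Fin n) (Fin n) F) f := rfl
  refine ⟨y, ?_, ?_⟩
  · rw [mem_centralizer_singleton_iff]
    apply Units.ext
    rw [Units.val_mul, Units.val_mul, hy]
    have := Commute.all (X : F[X]) f
    have h6 : Commute (aeval (x : Matrix (Fin n) (Fin n) F) (X : F[X])) (aeval (x : Matrix (Fin n) (Fin n) F) f) :=
      this.map (aeval (x : Matrix (Fin n) (Fin n) F))
    rw [aeval_X] at h6
    exact h6.eq.symm
  · apply Units.ext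
    rw [GeneralLinearGroup.val_det_apply, hy, hf]

theorem card_cent_SL' {n r q : ℕ} (hF : Fintype.card F = q) (hn : n.Prime) (hr : r.Prime) (h1 : r ∣ q ^ n - 1)
    (h2 : ¬ r ∣ q - 1) (h3 : ¬ r ∣ q) (x : Matrix.SpecialLinearGroup (Fin n) F) (hx : orderOf x = r) :
    Nat.card (centralizer ({x} : Set (Matrix.SpecialLinearGroup (Fin n) F))) * (q - 1) ≤ q ^ n - 1 := by
  classical
  have hinj : Function.Injective (Matrix.SpecialLinearGroup.toGL : Matrix.SpecialLinearGroup (Fin n) F →* _) := by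
    intro a b h
    apply Subtype.ext
    exact congrArg (Units.val) h
  have hx' : orderOf (Matrix.SpecialLinearGroup.toGL x : GL (Fin n) F) = r := by
    rw [orderOf_injective _ hinj, hx]
  have hcard := card_cent_GL hF hn hr h1 h2 h3 (Matrix.SpecialLinearGroup.toGL x) hx'
  rw [← hcard]
  have hU : Nat.card Fˣ = q - 1 := by
    rw [Nat.card_eq_fintype_card, Fintype.card_units, hF]
  let C := centralizer ({(Matrix.SpecialLinearGroup.toGL x : GL (Fin n) F)} : Set (GL (Fin n) F))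
  let δ : C →* Fˣ := GeneralLinearGroup.det.comp C.subtype
  have hδ : Function.Surjective δ := by
    intro c
    obtain ⟨y, hy, hy'⟩ := exists_cent_det hF hn hr h1 h2 h3 (Matrix.SpecialLinearGroup.toGL x) hx' c
    exact ⟨⟨y, hy⟩, hy'⟩
  have h4 : Nat.card C = Nat.card Fˣ * Nat.card δ.ker := by
    rw [Subgroup.card_eq_card_quotient_mul_card_subgroup δ.ker,
      Nat.card_congr (QuotientGroup.quotientKerEquivOfSurjective δ hδ).toEquiv]
  change _ ≤ Nat.card C
  rw [h4, hU, mul_comm]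
  apply Nat.mul_le_mul_left
  let f : centralizer ({x} : Set (Matrix.SpecialLinearGroup (Fin n) F)) → δ.ker := fun a =>
    ⟨⟨Matrix.SpecialLinearGroup.toGL a.1, by
      rw [mem_centralizer_singleton_iff]
      have h5 := (mem_centralizer_singleton_iff.1 a.2)
      rw [← map_mul, ← map_mul, h5]⟩, by
      rw [MonoidHom.mem_ker]
      apply Units.ext
      change (GeneralLinearGroup.det (Matrix.SpecialLinearGroup.toGL a.1) : F) = 1
      rw [GeneralLinearGroup.val_det_apply]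
      exact a.1.2⟩
  apply Nat.card_le_card_of_injective f
  intro a b hab
  have h5 : (Matrix.SpecialLinearGroup.toGL a.1 : GL (Fin n) F) = Matrix.SpecialLinearGroup.toGL b.1 :=
    congrArg (fun z : δ.ker => (z.1.1 : GL (Fin n) F)) hab
  exact Subtype.ext (hinj h5)

/-- `PSL_3(4)` has a self-centralizing subgroup of order `7` -/
theorem selfcent_l34 (hF : Fintype.card F = 4) :
    ∃ R : Subgroup (Matrix.ProjectiveSpecialLinearGroup (Fin 3) F), Nat.card R = 7 ∧
      centralizer (R : Set (Matrix.ProjectiveSpecialLinearGroup (Fin 3) F)) = R := by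
  have hr : Nat.Prime 7 := by norm_num
  have hrp : Fact (Nat.Prime 7) := ⟨hr⟩
  have h1 : 7 ∣ 4 ^ 3 - 1 := by norm_num
  have h2 : ¬ 7 ∣ 4 - 1 := by norm_num
  have h3 : ¬ 7 ∣ 4 := by norm_num
  obtain ⟨x, hx⟩ := exists_prime_orderOf_dvd_card' 7 (dvd_card_SL hF (n := 3) (by norm_num) hr h1 h2)
  have hZ : Nat.card (center (Matrix.SpecialLinearGroup (Fin 3) F)) = 3 := by
    rw [card_center_SL 3 (by norm_num), hF]
    decide
  refine quot_cent hr (by rw [hZ]; norm_num) x hx ?_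
  rw [hZ]
  have := card_cent_SL' hF Nat.prime_three hr h1 h2 h3 x hx
  norm_num only [_root_.ge_iff_le] at this ⊢
  omega

end Cent

/-- **`PSL_3(4)`, `p = 7`** -/
theorem two_l34 {F : Type} [Field F] [Fintype F] (hF : Fintype.card F = 4) :
    Two 7 (ProjectiveSpecialLinearGroup (Fin 3) F) := by
  have : Fact (Nat.Prime 7) := ⟨by norm_num⟩
  have hs : IsSimpleGroup (ProjectiveSpecialLinearGroup (Fin 3) F) := S0249.result 3 le_rfl
  have hcard : Nat.card (ProjectiveSpecialLinearGroup (Fin 3) F) = 20160 := by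
    have h := S0243.result (F := F) (q := 4) hF 3 (by norm_num)
    have e1 : ∏ i : Fin 3, (4 ^ 3 - 4 ^ (i : ℕ)) = 181440 := by decide
    have e2 : Nat.gcd 3 (4 - 1) = 3 := by norm_num
    rw [e1, e2] at h
    omega
  have hG := SmallSimple.OrdersA.not_comm hcard (by norm_num)
  obtain ⟨R, hR, hC⟩ := selfcent_l34 (F := F) hF
  have h := OB.data_seven hG hcard (by norm_num) (by norm_num) (by norm_num) R hR hC
  obtain ⟨M, hM, ⟨D⟩⟩ := exists_block h (by norm_num) default (t := 2) (by norm_num)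
  -- degree 20
  have h20 : 20 ∈ charDegrees (ProjectiveSpecialLinearGroup (Fin 3) F) := by
    obtain ⟨φ, hφ⟩ := t3 (F := F) (n := 3) (by norm_num)
    refine ⟨φ, ?_⟩
    rw [hφ, hF]
    decide
  -- degree 64
  have hchar : CharP F 2 := by
    obtain ⟨p, hp⟩ := CharP.exists F
    have hpr : p.Prime := (CharP.char_is_prime_or_zero F p).resolve_right (CharP.char_ne_zero_of_finite F p)
    have : Fact p.Prime := ⟨hpr⟩
    obtain ⟨s, hs0, hs⟩ := FiniteField.card F p
    rw [hF] at hs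
    have h1 : p ∣ 2 ^ 2 := by
      rw [show 2 ^ 2 = 4 by norm_num, hs]
      exact dvd_pow_self _ s.ne_zero
    have h2 : p = 2 := (Nat.prime_dvd_prime_iff_eq hpr Nat.prime_two).1 (hpr.dvd_of_dvd_pow h1)
    subst h2
    exact hp
  have hlie : IsLieTypeChar 2 (ProjectiveSpecialLinearGroup (Fin 3) F) :=
    Or.inl ⟨F, inferInstance, inferInstance, hchar, 3, by norm_num, by norm_num, ⟨MulEquiv.refl _⟩⟩
  have h64 : 64 ∈ charDegrees (ProjectiveSpecialLinearGroup (Fin 3) F) := by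
    obtain ⟨χ, hχ, h1, -⟩ := H167.StChar.hasSt_of_lie Nat.prime_two hlie
    refine ⟨⟨χ, hχ⟩, Blocks.Knorr.charDegree_of_natCast ?_⟩
    change χ 1 = _
    rw [h1, hcard]
    have : (20160 : ℕ).factorization 2 = 6 := by
      rw [Nat.factorization_def _ Nat.prime_two]
      rw [show (20160 : ℕ) = 2 ^ 6 * 315 by norm_num, padicValNat.mul (by norm_num) (by norm_num),
        padicValNat.prime_pow, padicValNat.eq_zero_of_not_dvd (by norm_num)]
    rw [this]
    norm_num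
  have hP := h.card_eq (default : Sylow 7 (ProjectiveSpecialLinearGroup (Fin 3) F))
  have hCP : Nat.card (centralizer ((default : Sylow 7 (ProjectiveSpecialLinearGroup (Fin 3) F)) :
      Set (ProjectiveSpecialLinearGroup (Fin 3) F))) = 7 := by
    rw [h.card_centralizer]
  have c1 := degree_cases hM D hP hCP (by norm_num) h20 (by norm_num)
  have c2 := degree_cases hM D hP hCP (by norm_num) h64 (by norm_num)
  have hlen := D.length_degs
  obtain ⟨a, b, hab⟩ : ∃ a b, D.degs = [a, b] := List.length_eq_two.1 (by omega)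
  have hspec := D.degs_spec hP
  have hexc := D.dexc_modEq hP (by norm_num)
  have hf := D.natAbs_dexc
  rw [← D.dexc_eq (by norm_num)] at hexc hf
  rw [hab] at c1 c2 hspec hexc hf
  simp only [List.mem_cons, List.not_mem_nil, or_false, exists_eq_or_imp, exists_eq_left, List.sum_cons,
    List.sum_nil, add_zero, forall_eq_or_imp, forall_eq] at c1 c2 hspec hexc hf
  obtain ⟨⟨ha, -, -⟩, ⟨hb, -, -⟩⟩ := hspec
  unfold Int.ModEq at ha hb hexc
  push_cast at ha hb hexc
  have hf45 : D.f = 45 := by (clear * - c1 c2 hf ha hb; omega)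
  have hab' : (a = -20 ∧ b = 64) ∨ (a = 64 ∧ b = -20) := by (clear * - c2 hf ha hb hf45; omega)
  have hsum : (1 + (D.degs.map (· ^ 2)).sum + (2 : ℕ) * (D.f : ℤ) ^ 2) = 8547 := by
    rw [hab, hf45]
    rcases hab' with ⟨rfl, rfl⟩ | ⟨rfl, rfl⟩ <;> norm_num
  obtain ⟨φ, t, ht, hφ, h2⟩ := PslGen.exB' (F := F) (n := 3) le_rfl (hasCusp F 2 (by norm_num))
  rw [hF] at ht hφ
  have e3 : (4 ^ 3 - 1) * ∏ i ∈ Finset.range (3 - 2), (4 ^ (i + 1) - 1) = 189 := by decide
  rw [e3] at hφ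
  have ht' : t = 1 ∨ t = 3 := by
    have := (Nat.dvd_prime Nat.prime_three).1 ht
    exact this
  have hdeg : charDegree (φ : ProjectiveSpecialLinearGroup (Fin 3) F → ℂ) = 63 ∨
      charDegree (φ : ProjectiveSpecialLinearGroup (Fin 3) F → ℂ) = 21 := by
    rcases ht' with rfl | rfl <;> (clear * - hφ; omega)
  refine Block.two_of_sum hM D hP hCP φ (by rcases hdeg with h | h <;> rw [h] <;> norm_num) ?_
  rw [hsum, hcard]
  rcases hdeg with h | h <;> rw [h] <;> norm_num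

/-- transport -/
theorem two_of_equiv {S : Type u} {T : Type v} [Group S] [Group T] [Finite S] [Finite T] (e : S ≃* T) {p : ℕ}
    (h : Two p T) : Two p S := by
  obtain ⟨α, β, h1, h2, h3⟩ := h
  have hd : ∀ γ : IrrCharacter T, ∀ h : IsIrrCharacter S ((γ : T → ℂ) ∘ e.toMonoidHom),
      charDegree ((⟨(γ : T → ℂ) ∘ e.toMonoidHom, h⟩ : IrrCharacter S) : S → ℂ) = charDegree (γ : T → ℂ) := by
    intro γ h
    simp only [charDegree, _root_.MulEquiv.toMonoidHom_eq_coe, _root_.MonoidHom.coe_coe, _root_.Function.comp_apply, _root_.map_one]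
  refine ⟨⟨(α : T → ℂ) ∘ e.toMonoidHom, isIrr_comp e.toMonoidHom e.surjective α.2⟩,
    ⟨(β : T → ℂ) ∘ e.toMonoidHom, isIrr_comp e.toMonoidHom e.surjective β.2⟩, by rwa [hd], by rwa [hd], fun σ => ?_⟩
  obtain ⟨t, ht⟩ := h3 ((e.symm.trans σ).trans e)
  refine ⟨e.symm t, ?_⟩
  change (α : T → ℂ) (e (σ (e.symm t))) ≠ (β : T → ℂ) (e (e.symm t))
  rw [MulEquiv.apply_symm_apply]
  exact ht

/-- **`PSL_n(q)`, `n ≥ 3`, `p ∤ q`** -/
theorem two_psl_of_equiv {S : Type u} [Group S] [Finite S] [IsSimpleGroup S] {F : Type} [Field F] [Fintype F]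
    {n : ℕ} (hn : 3 ≤ n) (e : S ≃* ProjectiveSpecialLinearGroup (Fin n) F) {p : ℕ} (hp : p.Prime)
    (hd : p ∣ Nat.card S) (hq : ¬ p ∣ Fintype.card F) : TwoOr p S := by
  have hd' : p ∣ Nat.card (ProjectiveSpecialLinearGroup (Fin n) F) := by rwa [← Nat.card_congr e.toEquiv]
  by_cases hA : IsA F n p
  · exact Or.inl (two_of_equiv e (PslGen.two_A hn hp hA))
  by_cases h3 : n = 3 ∧ (Fintype.card F = 2 ∨ Fintype.card F = 4)
  · obtain ⟨rfl, h24⟩ := h3
    have h1 : p ∣ Fintype.card F ^ 3 - 1 := by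
      rcases cover hp hd' with h | h | h
      · exact absurd h hq
      · exact absurd h hA
      · rcases h with h | ⟨i, hi, hin, h⟩
        · exact h
        · exact absurd ⟨i, hi, by omega, h⟩ hA
    have h2 : ¬ p ∣ Fintype.card F - 1 := fun h => hA ⟨1, le_rfl, by norm_num, by rwa [pow_one]⟩
    have h7 : p = 7 := by
      rcases h24 with h4 | h4 <;> rw [h4] at h1 h2
      · exact (Nat.prime_dvd_prime_iff_eq hp (by norm_num)).1 h1
      · rw [show 4 ^ 3 - 1 = (4 - 1) * ((4 - 1) * 7) by norm_num, hp.dvd_mul, hp.dvd_mul] at h1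
        rcases h1 with h | h | h
        · exact absurd h h2
        · exact absurd h h2
        · exact (Nat.prime_dvd_prime_iff_eq hp (by norm_num)).1 h
    subst h7
    rcases h24 with h4 | h4
    · refine Or.inr (Or.inl ?_)
      have hc : Nat.card S = 168 := by
        rw [Nat.card_congr e.toEquiv, Cfsg.Agent.H3.CenT.card_psl_three_two h4]
      have : Fact (Nat.Prime 7) := ⟨by norm_num⟩
      exact ⟨ZMod 7, inferInstance, inferInstance, inferInstance, by rw [ZMod.card]; norm_num,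
        Cfsg.Agent.S0495.result hc (ZMod.card 7)⟩
    · exact Or.inl (two_of_equiv e (two_l34 h4))
  · refine Or.inl (two_of_equiv e (PslGen.two_psl_gen hn hp hd' hq fun _ h => ?_))
    constructor <;> intro h4 <;> exact h3 ⟨h, by (clear * - h4 F n h3 h; tauto)⟩

/-- **The row `PSL_n(q)`, `n ≥ 3`, `p` not the characteristic.** -/
theorem two_psl (S : Type u) [Group S] [Finite S] (hs : IsSimpleGroup S) {F : Type} [Field F] [Fintype F]
    {n : ℕ} (hn : 3 ≤ n) (e : S ≃* ProjectiveSpecialLinearGroup (Fin n) F) {p : ℕ} (hp : p.Prime)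
    (hd : p ∣ Nat.card S) (hc : ¬ CharP F p) : TwoOr p S := by
  refine two_psl_of_equiv hn e hp hd fun h => hc ?_
  obtain ⟨r, hr⟩ := CharP.exists F
  have hpr : r.Prime := (CharP.char_is_prime_or_zero F r).resolve_right (CharP.char_ne_zero_of_finite F r)
  have : Fact r.Prime := ⟨hpr⟩
  obtain ⟨s, hs0, hs⟩ := FiniteField.card F r
  rw [hs] at h
  rw [(Nat.prime_dvd_prime_iff_eq hp hpr).1 (hp.dvd_of_dvd_pow h)]
  exact hr

end Cfsg.Agent.H113.Two.Psl
end
end

-- part: H321/Dl/PslMany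
section
set_option linter.all false
open scoped Cfsg.Agent.FastGrp

/-!
# Many characters of `PSL_n(q)` of degree divisible by `p` (S4769, helper321)

`many_psl` : if `n ≥ 5` and `p ∣ q^e - 1`, `1 ≤ e ≤ n / 2`, then `PSL_n(q)` has at least `(n + 1) / 2` irreducible characters of
degree divisible by `p`, of pairwise different degrees.
`many_psl_four` : three of them for `n = 4`, `p = 2`, `q` odd.
-/

set_option autoImplicit false
set_option linter.unusedSectionVars false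
set_option linter.style.haveILetI false

open Cfsg Matrix

namespace Cfsg.Agent.H321.Dl.PslMany

open Cfsg.Agent.H53.HC Cfsg.Agent.Characters MulAction Module
open Cfsg.Agent.H113.PSL Para Pass Hyper Degrees Three Facts Main
open Cfsg.Agent.H113.Two.PslGen
open Cfsg.Agent.H246.Dl

universe u

variable {F : Type u} [Field F] [Fintype F]

local notation "𝔮" => Fintype.card F

/-- `∏_{0<i≤N} (q^i - 1)` -/
def fac (q N : ℕ) : ℕ := ∏ i ∈ Finset.range N, (q ^ (i + 1) - 1)

theorem fac_succ (q N : ℕ) : fac q (N + 1) = fac q N * (q ^ (N + 1) - 1) := Finset.prod_range_succ _ _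

theorem fac_pos {q : ℕ} (hq : 1 < q) (N : ℕ) : 0 < fac q N := by
  apply Finset.prod_pos
  intro i _
  have : 1 < q ^ (i + 1) := Nat.one_lt_pow (by omega) hq
  omega

/-- falling products -/
theorem fall_mul (q : ℕ) {N l : ℕ} (hl : l ≤ N) : (∏ j : Fin l, (q ^ (N - j.val) - 1)) * fac q (N - l) = fac q N := by
  rw [Fin.prod_univ_eq_prod_range (fun j => q ^ (N - j) - 1) l]
  induction l with
  | zero => simp only [_root_.Finset.range_zero, _root_.Finset.prod_empty, _root_.tsub_zero, _root_.one_mul]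
  | succ l ih =>
    rw [Finset.prod_range_succ, ← ih (by omega)]
    obtain ⟨k, hk⟩ : ∃ k, N - l = k + 1 := ⟨N - l - 1, by omega⟩
    have h1 : N - (l + 1) = k := by omega
    rw [h1, hk, fac_succ]
    ring

theorem card_mul {n a : ℕ} (ha : a ≤ n) :
    Nat.card {W : Submodule F (Fin n → F) // finrank F W = a} * fac 𝔮 a * fac 𝔮 (n - a) = fac 𝔮 n := by
  have h1 := H950.card_subspaces_eq (F := F) (V := Fin n → F) (by rw [finrank_fin_fun]) ha rfl
  have h2 := fall_mul 𝔮 (le_refl a)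
  rw [Nat.sub_self] at h2
  have h3 : fac 𝔮 0 = 1 := rfl
  rw [h3, mul_one] at h2
  rw [h2] at h1
  rw [h1, fall_mul 𝔮 ha]

/-- divisibility by the prime divisors of `q^e - 1` -/
theorem dvd_of_fac {d t N e p : ℕ} {b : ℕ} (hb : 3 ≤ b) (ht : t ∣ 𝔮 - 1) (h : d * t = N * fac 𝔮 (b - 1)) (he : 1 ≤ e)
    (heb : e < b) (hp : p ∣ 𝔮 ^ e - 1) : p ∣ d := by
  have hq := one_lt_q (F := F)
  have h1 : fac 𝔮 (b - 1) = (𝔮 - 1) * ∏ i ∈ Finset.range (b - 2), (𝔮 ^ (i + 2) - 1) := by
    obtain ⟨k, rfl⟩ : ∃ k, b = k + 2 := ⟨b - 2, by omega⟩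
    change ∏ i ∈ Finset.range (k + 1), _ = _
    rw [Finset.prod_range_succ', mul_comm]
    simp only [_root_.zero_add, _root_.pow_one, _root_.add_tsub_cancel_right]
  have h2 : (∏ i ∈ Finset.range (b - 2), (𝔮 ^ (i + 2) - 1)) ∣ d := by
    have h3 : N * (∏ i ∈ Finset.range (b - 2), (𝔮 ^ (i + 2) - 1)) ∣ d := by
      refine dvd_of_mul_eq (c := 𝔮 - 1) (by omega) ht ?_
      rw [h, h1]
      ring
    exact (Dvd.intro_left _ rfl).trans h3
  refine dvd_trans ?_ h2
  by_cases he1 : e = 1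
  · subst he1
    refine (hp.trans ?_).trans (Finset.dvd_prod_of_mem (fun j => 𝔮 ^ (j + 2) - 1)
      (Finset.mem_range.2 (show 0 < b - 2 by omega)))
    rw [pow_one]
    exact sub_one_dvd _
  · refine hp.trans ?_
    have h3 := Finset.dvd_prod_of_mem (fun j => 𝔮 ^ (j + 2) - 1)
      (Finset.mem_range.2 (show e - 2 < b - 2 by omega))
    have h4 : e - 2 + 2 = e := by omega
    simp only [h4] at h3
    exact h3

/-- the character with the trivial character of `GL_(n-a)` -/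
theorem exists_deg {n a : ℕ} (hn : 5 ≤ n) (ha : n < 2 * a) (han : a < n) :
    ∃ (φ : IrrCharacter (ProjectiveSpecialLinearGroup (Fin n) F)) (t : ℕ), t ∣ 𝔮 - 1 ∧
      charDegree (φ : ProjectiveSpecialLinearGroup (Fin n) F → ℂ) * t * ((𝔮 ^ a - 1) * fac 𝔮 (n - a)) = fac 𝔮 n ∧
      ∀ p e : ℕ, 1 ≤ e → e < a → p ∣ 𝔮 ^ e - 1 →
        p ∣ charDegree (φ : ProjectiveSpecialLinearGroup (Fin n) F → ℂ) := by
  obtain ⟨φ, t, ht, hφ⟩ := exists_para (F := F) (n := n) (a := a) (b := n - a) (by omega) (by omega) (by omega)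
    (hasCusp F a (by omega)) (Core.isIrr_one (G := GL (Fin (n - a)) F)) (d := 1) (by simp) (fun c => rfl)
  have htq := ht.trans (Nat.gcd_dvd_right _ _)
  rw [mul_one] at hφ
  refine ⟨φ, t, htq, ?_, fun p e he hea hp => dvd_of_fac (b := a) (by omega) htq hφ he hea hp⟩
  rw [hφ, ← card_mul han.le]
  obtain ⟨k, rfl⟩ : ∃ k, a = k + 1 := ⟨a - 1, by omega⟩
  rw [fac_succ, Nat.add_sub_cancel]
  unfold fac
  ring

/-- the character with the Steinberg character of `GL_2` -/
theorem exists_st {n : ℕ} (hn : 5 ≤ n) :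
    ∃ (φ : IrrCharacter (ProjectiveSpecialLinearGroup (Fin n) F)),
      𝔮 ∣ charDegree (φ : ProjectiveSpecialLinearGroup (Fin n) F → ℂ) ∧
      ∀ p e : ℕ, 1 ≤ e → e < n - 2 → p ∣ 𝔮 ^ e - 1 →
        p ∣ charDegree (φ : ProjectiveSpecialLinearGroup (Fin n) F → ℂ) := by
  classical
  obtain ⟨φ, t, ht, hφ⟩ := exists_para (F := F) (n := n) (a := n - 2) (b := 2) (by omega) (by omega) (by omega)
    (hasCusp F (n - 2) (by omega)) (isIrr_st (F := F) 1) (d := 𝔮) (st_one 1) (fun c => by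
      rw [st_scalar, st_one]; simp)
  have htq := ht.trans (Nat.gcd_dvd_right _ _)
  refine ⟨φ, q_dvd htq hφ ⟨Nat.card {W : Submodule F (Fin n → F) // finrank F W = n - 2} *
          (∏ i ∈ Finset.range (n - 2 - 1), (𝔮 ^ (i + 1) - 1)), by ring⟩, fun p e he hea hp => ?_⟩
  refine dvd_of_fac (b := n - 2) (N := Nat.card {W : Submodule F (Fin n → F) // finrank F W = n - 2} * 𝔮)
    (by omega) htq ?_ he hea hp
  rw [hφ]
  unfold fac
  ring

/-- the degrees increase -/
theorem deg_lt {n a d d' t t' : ℕ} (ha : 2 ≤ a) (han : a + 1 < n) (ht' : t' ∣ 𝔮 - 1)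
    (h : d * t * ((𝔮 ^ a - 1) * fac 𝔮 (n - a)) = fac 𝔮 n)
    (h' : d' * t' * ((𝔮 ^ (a + 1) - 1) * fac 𝔮 (n - (a + 1))) = fac 𝔮 n) : d < d' := by
  have hq := one_lt_q (F := F)
  obtain ⟨k, rfl⟩ : ∃ k, n = a + 1 + (k + 1) := ⟨n - a - 2, by omega⟩
  have e1 : a + 1 + (k + 1) - a = (k + 1) + 1 := by omega
  have e2 : a + 1 + (k + 1) - (a + 1) = k + 1 := by omega
  rw [e1, fac_succ] at h
  rw [e2, ← h] at h'
  have hf := fac_pos hq (k + 1)
  have hA : 1 < 𝔮 ^ a := Nat.one_lt_pow (by omega) hq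
  have hk : 1 < 𝔮 ^ (k + 1 + 1) := Nat.one_lt_pow (by omega) hq
  have h3 : d' * t' * (𝔮 ^ (a + 1) - 1) = d * t * ((𝔮 ^ a - 1) * (𝔮 ^ (k + 1 + 1) - 1)) := by
    apply Nat.eq_of_mul_eq_mul_right hf
    linarith only [h']
  have hd : 0 < d * t := by
    rcases Nat.eq_zero_or_pos (d * t) with h0 | h0
    · rw [h0, zero_mul] at h
      have := fac_pos hq (a + 1 + (k + 1))
      omega
    · exact h0
  have ht'q := Nat.le_of_dvd (by omega) ht'
  -- `(q - 1) (q^(a+1) - 1) < (q^a - 1) (q^(k+2) - 1)`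
  have h4 : (𝔮 - 1) * (𝔮 ^ (a + 1) - 1) < (𝔮 ^ a - 1) * (𝔮 ^ (k + 1 + 1) - 1) := by
    have h5 : (𝔮 - 1) * (𝔮 + 1) ≤ 𝔮 ^ (k + 1 + 1) - 1 := by
      have h6 : 𝔮 ^ 2 ≤ 𝔮 ^ (k + 1 + 1) := Nat.pow_le_pow_right (by omega) (by omega)
      obtain ⟨x, hx⟩ : ∃ x, 𝔮 = x + 1 := ⟨𝔮 - 1, by omega⟩
      have h7 : (x + 1 - 1) * (x + 1 + 1) + 1 = (x + 1) ^ 2 := by rw [Nat.add_sub_cancel]; ring
      rw [hx] at h6 ⊢
      omega
    have h8 : 𝔮 ^ (a + 1) - 1 < (𝔮 ^ a - 1) * (𝔮 + 1) := by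
      have h9 : 𝔮 ^ 2 ≤ 𝔮 ^ a := Nat.pow_le_pow_right (by omega) ha
      have h10 : 𝔮 * 2 ≤ 𝔮 ^ 2 := by rw [pow_two]; exact Nat.mul_le_mul_left _ hq
      obtain ⟨y, hy⟩ : ∃ y, 𝔮 ^ a = y + 1 := ⟨𝔮 ^ a - 1, by omega⟩
      rw [pow_succ, hy, Nat.add_sub_cancel]
      have h11 : (y + 1) * 𝔮 = y * 𝔮 + 𝔮 := by ring
      have h12 : y * (𝔮 + 1) = y * 𝔮 + y := by ring
      rw [h11, h12]
      omega
    calc (𝔮 - 1) * (𝔮 ^ (a + 1) - 1) < (𝔮 - 1) * ((𝔮 ^ a - 1) * (𝔮 + 1)) :=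
          Nat.mul_lt_mul_of_pos_left h8 (by omega)
      _ = (𝔮 ^ a - 1) * ((𝔮 - 1) * (𝔮 + 1)) := by ring
      _ ≤ _ := Nat.mul_le_mul_left _ h5
  by_contra hcon
  push Not at hcon
  have ht0 : 1 ≤ t := by
    rcases Nat.eq_zero_or_pos t with h0 | h0
    · rw [h0, mul_zero] at hd; omega
    · exact h0
  have hd0 : 1 ≤ d := by
    rcases Nat.eq_zero_or_pos d with h0 | h0
    · rw [h0, zero_mul] at hd; omega
    · exact h0
  have h13 : d' * t' * (𝔮 ^ (a + 1) - 1) ≤ d * ((𝔮 - 1) * (𝔮 ^ (a + 1) - 1)) := by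
    calc d' * t' * (𝔮 ^ (a + 1) - 1) ≤ d * (𝔮 - 1) * (𝔮 ^ (a + 1) - 1) :=
          Nat.mul_le_mul_right _ (Nat.mul_le_mul hcon ht'q)
      _ = _ := by ring
  have h14 : d * ((𝔮 - 1) * (𝔮 ^ (a + 1) - 1)) < d * t * ((𝔮 ^ a - 1) * (𝔮 ^ (k + 1 + 1) - 1)) := by
    calc d * ((𝔮 - 1) * (𝔮 ^ (a + 1) - 1)) < d * ((𝔮 ^ a - 1) * (𝔮 ^ (k + 1 + 1) - 1)) :=
          Nat.mul_lt_mul_of_pos_left h4 hd0
      _ = d * 1 * ((𝔮 ^ a - 1) * (𝔮 ^ (k + 1 + 1) - 1)) := by ring
      _ ≤ _ := Nat.mul_le_mul_right _ (Nat.mul_le_mul_left _ ht0)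
  omega

/-- **Many characters of `PSL_n(q)`, `n ≥ 5`.** -/
theorem many_psl {n e p : ℕ} (hn : 5 ≤ n) (he : 1 ≤ e) (hen : e ≤ n / 2) (h3 : e < n - 2) (hp : p ∣ 𝔮 ^ e - 1) :
    Many p (ProjectiveSpecialLinearGroup (Fin n) F) ((n + 1) / 2) := by
  classical
  have hq := one_lt_q (F := F)
  obtain ⟨ψ, hψ, hψd⟩ := exists_st (F := F) hn
  have hne : Nonempty (IrrCharacter (ProjectiveSpecialLinearGroup (Fin n) F)) := ⟨ψ⟩
  choose! φ t ht hφ hdv using fun (a : ℕ) (h : n < 2 * a ∧ a < n) => exists_deg (F := F) hn h.1 h.2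
  have hmono : ∀ a b, n < 2 * a → a < b → b < n → charDegree (φ a : ProjectiveSpecialLinearGroup (Fin n) F → ℂ) <
      charDegree (φ b : ProjectiveSpecialLinearGroup (Fin n) F → ℂ) := by
    intro a b ha hab hb
    induction b with
    | zero => omega
    | succ b ih =>
      have h1 : charDegree (φ b : ProjectiveSpecialLinearGroup (Fin n) F → ℂ) <
          charDegree (φ (b + 1) : ProjectiveSpecialLinearGroup (Fin n) F → ℂ) :=
        deg_lt (by omega) hb (ht (b + 1) ⟨by omega, hb⟩) (hφ b ⟨by omega, by omega⟩)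
          (hφ (b + 1) ⟨by omega, hb⟩)
      rcases Nat.lt_or_ge a b with h2 | h2
      · exact (ih h2 (by omega)).trans h1
      · have : a = b := by omega
        subst this
        exact h1
  let D : Finset ℕ := (Finset.Ico (n / 2 + 1) n).image fun a =>
    charDegree (φ a : ProjectiveSpecialLinearGroup (Fin n) F → ℂ)
  have hD : D.card = n - (n / 2 + 1) := by
    rw [Finset.card_image_of_injOn, Nat.card_Ico]
    intro a ha b hb hab
    rw [Finset.coe_Ico, Set.mem_Ico] at ha hb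
    rcases lt_trichotomy a b with h | h | h
    · exact absurd hab (hmono a b (by omega) h hb.2).ne
    · exact h
    · exact absurd hab (hmono b a (by omega) h ha.2).ne'
  have hnot : charDegree (ψ : ProjectiveSpecialLinearGroup (Fin n) F → ℂ) ∉ D := by
    intro h
    obtain ⟨a, ha, hab⟩ := Finset.mem_image.1 h
    rw [Finset.mem_Ico] at ha
    have h1 := hφ a ⟨by omega, ha.2⟩
    rw [mul_assoc] at h1
    exact ne_of_q (coprime_prod n) h1 hψ hab
  have hcard : (insert (charDegree (ψ : ProjectiveSpecialLinearGroup (Fin n) F → ℂ)) D).card = (n + 1) / 2 := by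
    rw [Finset.card_insert_of_notMem hnot, hD]
    omega
  rw [← hcard]
  apply Many.of_finset
  intro d hd
  have hone : ∀ χ : IrrCharacter (ProjectiveSpecialLinearGroup (Fin n) F),
      (χ : ProjectiveSpecialLinearGroup (Fin n) F → ℂ) 1 =
        (charDegree (χ : ProjectiveSpecialLinearGroup (Fin n) F → ℂ) : ℂ) := by
    intro χ
    obtain ⟨k, -, hk⟩ := Core.isIrr_apply_one χ.2
    have h1 := H670.PSing.charDegree_eq_of hk
    change charDegree (χ : ProjectiveSpecialLinearGroup (Fin n) F → ℂ) = k at h1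
    rw [h1]
    exact hk
  rcases Finset.mem_insert.1 hd with rfl | h
  · exact ⟨hψd p e he h3 hp, ψ, ψ.2, hone ψ⟩
  · obtain ⟨a, ha, rfl⟩ := Finset.mem_image.1 h
    rw [Finset.mem_Ico] at ha
    exact ⟨hdv a ⟨by omega, ha.2⟩ p e he (by omega) hp, φ a, (φ a).2, hone (φ a)⟩

/-- **Three characters of `PSL_4(q)` of even degree**, `q` odd. -/
theorem many_psl_four (h2 : 2 ∣ 𝔮 - 1) : Many 2 (ProjectiveSpecialLinearGroup (Fin 4) F) 3 := by
  classical
  have hq := one_lt_q (F := F)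
  obtain ⟨φ, t, ht, hφ, h1⟩ := exA' (n := 4) (by norm_num) (hasCusp F 4 (by norm_num))
  obtain ⟨ψ, t', ht', hψ, h2'⟩ := exB' (n := 4) (by norm_num) (hasCusp F (4 - 1) (by norm_num))
  obtain ⟨χ, s, hs, hχ⟩ := t7 (F := F) (hasCusp F 2 (by norm_num))
  have hsq := hs.trans (Nat.gcd_dvd_right _ _)
  have hφ2 := h1 2 ⟨1, le_rfl, by norm_num, by rwa [pow_one]⟩
  have hψ2 := h2' 2 Nat.prime_two (Or.inr ⟨1, le_rfl, by norm_num, by rwa [pow_one]⟩)
  have hχ2 : 2 ∣ charDegree (χ : ProjectiveSpecialLinearGroup (Fin 4) F → ℂ) := by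
    refine dvd_trans ?_ (dvd_of_mul_eq (c := 𝔮 - 1) (by omega) hsq hχ)
    apply Dvd.dvd.mul_left
    apply Dvd.dvd.mul_right
    obtain ⟨k, hk⟩ := h2
    have : 𝔮 = 2 * k + 1 := by omega
    rw [this]
    exact ⟨2 * k ^ 2 + 2 * k + 1, by ring⟩
  have hχq : 𝔮 ∣ charDegree (χ : ProjectiveSpecialLinearGroup (Fin 4) F → ℂ) :=
    q_dvd hsq hχ ⟨(𝔮 - 1) * ((𝔮 ^ 2 + 1) * (𝔮 ^ 2 + 𝔮 + 1)), by ring⟩
  have n1 : charDegree (φ : ProjectiveSpecialLinearGroup (Fin 4) F → ℂ) ≠
      charDegree (ψ : ProjectiveSpecialLinearGroup (Fin 4) F → ℂ) := by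
    intro h
    rw [← h] at hψ
    exact degrees_ne (by norm_num) ht ht' hφ hψ
  have n2 : charDegree (φ : ProjectiveSpecialLinearGroup (Fin 4) F → ℂ) ≠
      charDegree (χ : ProjectiveSpecialLinearGroup (Fin 4) F → ℂ) := ne_of_q (coprime_prod _) hφ hχq
  have n3 : charDegree (ψ : ProjectiveSpecialLinearGroup (Fin 4) F → ℂ) ≠
      charDegree (χ : ProjectiveSpecialLinearGroup (Fin 4) F → ℂ) := by
    rw [mul_assoc] at hψ
    exact ne_of_q (Nat.Coprime.mul_right (coprime_pow_sub 4 (by norm_num)) (coprime_prod _)) hψ hχq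
  refine Many.of_degrees (m := 3) ![φ, ψ, χ] ?_ ?_
  · intro i
    fin_cases i
    · exact hφ2
    · exact hψ2
    · exact hχ2
  · intro i j hij
    fin_cases i <;> fin_cases j
    · rfl
    · exact absurd hij n1
    · exact absurd hij n2
    · exact absurd hij n1.symm
    · rfl
    · exact absurd hij n3
    · exact absurd hij n2.symm
    · exact absurd hij n3.symm
    · rfl

end Cfsg.Agent.H321.Dl.PslMany
end
end
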